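import Groth.Agent.Lib.PushClosed.Unit
import Groth.Agent.Lib.StalkLoc.Basic
import Groth.Agent.Lib.ClSub.Quot
import Groth.Agent.Lib.DerivedOX.FlatTensor

/-!
# Modules killed by a square-zero ideal
-/

set_option autoImplicit false
set_option linter.style.haveILetI false
universe u

open CategoryTheory CategoryTheory.Limits AlgebraicGeometry Opposite TopologicalSpace
open Groth.Agent.Lib Groth.Agent.Lib.Modules.StalkModule Groth.Agent.Lib.DerivedOX.PullbackStalk
open scoped TensorProduct

namespace Groth.Agent.Lib.SqZeroMod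

section
variable {X Z : Scheme.{u}} (i : Z ⟶ X)

/-- The kernel of each stalk map kills the stalk. -/
def Killed (M : X.Modules) : Prop :=
  ∀ (z : Z) (a : X.presheaf.stalk (i z)), (i.stalkMap z).hom a = 0 →
    ∀ m : M.presheaf.stalk (i z), a • m = 0

theorem bijective_unitStalk [IsPreimmersion i] {M : X.Modules} (h : Killed i M) (z : Z) :
    Function.Bijective (unitStalk i z M) := by
  letI : Algebra (X.presheaf.stalk (i z)) (Z.presheaf.stalk z) := (i.stalkMap z).hom.toAlgebra
  haveI := isIso_comparison i z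
  have hc := ConcreteCategory.bijective_of_isIso ((comparison i z).app M)
  have hg : ∀ m, unitStalk i z M m =
      (comparison i z).app M ((1 : Z.presheaf.stalk z) ⊗ₜ[X.presheaf.stalk (i z)] m) := fun m =>
    (comparison_one_tmul i z M m).symm
  let s := Function.surjInv (i.stalkMap_surjective z)
  have hs : ∀ c, i.stalkMap z (s c) = c := Function.surjInv_eq _
  have hdiff : ∀ (a b : X.presheaf.stalk (i z)), i.stalkMap z a = i.stalkMap z b →
      ∀ m : M.presheaf.stalk (i z), a • m = b • m := fun a b hab m =>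
    sub_eq_zero.1 ((sub_smul a b m).symm.trans (h z _ (by rw [map_sub, hab, sub_self]) m))
  let r : Z.presheaf.stalk z ⊗[X.presheaf.stalk (i z)] M.presheaf.stalk (i z) →ₗ[X.presheaf.stalk (i z)]
      M.presheaf.stalk (i z) :=
    TensorProduct.lift (LinearMap.mk₂ _ (fun c m => s c • m)
      (fun c d m => by rw [← add_smul]; exact hdiff _ _ (by rw [map_add, hs, hs, hs]) m)
      (fun a c m => by
        rw [← mul_smul]
        exact hdiff _ _ (by rw [hs, map_mul, hs]; exact Algebra.smul_def a c) m)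
      (fun c m m' => smul_add _ _ _) (fun a c m => smul_comm _ _ _))
  have hr : ∀ m, r ((1 : Z.presheaf.stalk z) ⊗ₜ m) = m := fun m =>
    (hdiff (s 1) 1 (by rw [hs, map_one]) m).trans (one_smul _ m)
  refine ⟨fun a b hab => ?_, fun b => ?_⟩
  · exact ((hr a).symm.trans (congrArg r (hc.1 ((hg a).symm.trans (hab.trans (hg b)))))).trans (hr b)
  · obtain ⟨t, rfl⟩ := hc.2 b
    suffices key : ∀ t : Z.presheaf.stalk z ⊗[X.presheaf.stalk (i z)] M.presheaf.stalk (i z),
        ∃ m, (1 : Z.presheaf.stalk z) ⊗ₜ[X.presheaf.stalk (i z)] m = t by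
      obtain ⟨m, hm⟩ := key t
      exact ⟨m, (hg m).trans (congrArg _ hm)⟩
    intro t
    induction t using TensorProduct.induction_on with
    | zero => exact ⟨0, TensorProduct.tmul_zero _ _⟩
    | tmul c a =>
      exact ⟨s c • a, by rw [← TensorProduct.smul_tmul, Algebra.smul_def, mul_one]; exact congrArg (· ⊗ₜ a) (hs c)⟩
    | add a b ha hb =>
      obtain ⟨ma, rfl⟩ := ha
      obtain ⟨mb, rfl⟩ := hb
      exact ⟨ma + mb, TensorProduct.tmul_add _ _ _⟩

/-- The kernel of a stalk map of a closed immersion comes from the ideal of an affine chart. -/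
theorem ker_stalkMap_le [IsClosedImmersion i] (U : X.affineOpens) (z : Z) (hx : i.base z ∈ U.1) :
    RingHom.ker (i.stalkMap z).hom ≤ (i.ker.ideal U).map (X.presheaf.germ U.1 (i.base z) hx).hom := by
  intro c hc
  letI := TopCat.Presheaf.algebra_section_stalk X.presheaf ⟨i.base z, hx⟩
  haveI := U.2.isLocalization_stalk ⟨i.base z, hx⟩
  obtain ⟨⟨r, m⟩, hm⟩ := IsLocalization.surj (U.2.primeIdealOf ⟨i.base z, hx⟩).asIdeal.primeCompl c
  have hm' : c * X.presheaf.germ U.1 (i.base z) hx m.1 = X.presheaf.germ U.1 (i.base z) hx r := hm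
  have hu : IsUnit (X.presheaf.germ U.1 (i.base z) hx m.1) :=
    IsLocalization.map_units (X.presheaf.stalk (i.base z)) m
  have hx' : z ∈ i ⁻¹ᵁ U.1 := hx
  have hr : Z.presheaf.germ (i ⁻¹ᵁ U.1) z hx' (i.app U.1 r) = 0 := by
    rw [← Scheme.Hom.germ_stalkMap_apply i U.1 z hx r, ← hm']
    exact (map_mul _ _ _).trans (by rw [RingHom.mem_ker.1 hc, zero_mul])
  have hA : IsAffineOpen (i ⁻¹ᵁ U.1) := U.2.preimage i
  letI := TopCat.Presheaf.algebra_section_stalk Z.presheaf ⟨z, hx'⟩
  haveI := hA.isLocalization_stalk ⟨z, hx'⟩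
  obtain ⟨⟨g', hg'⟩, hg0⟩ := (IsLocalization.map_eq_zero_iff
    (hA.primeIdealOf ⟨z, hx'⟩).asIdeal.primeCompl (Z.presheaf.stalk z) (i.app U.1 r)).1 hr
  obtain ⟨g, rfl⟩ := Scheme.Hom.app_surjective i U.1 U.2 g'
  have hgu' : IsUnit (Z.presheaf.germ (i ⁻¹ᵁ U.1) z hx' (i.app U.1 g)) :=
    IsLocalization.map_units (Z.presheaf.stalk z) (⟨_, hg'⟩ : (hA.primeIdealOf ⟨z, hx'⟩).asIdeal.primeCompl)
  have hgu : IsUnit (X.presheaf.germ U.1 (i.base z) hx g) := by
    rw [← Scheme.Hom.germ_stalkMap_apply i U.1 z hx g] at hgu'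
    exact (isUnit_map_iff (i.stalkMap z).hom _).1 hgu'
  have hI : g * r ∈ i.ker.ideal U := by
    rw [Scheme.Hom.ker_apply, RingHom.mem_ker, map_mul]
    exact hg0
  refine (Ideal.mul_unit_mem_iff_mem _ (hgu.mul hu)).1 ?_
  rw [show c * (X.presheaf.germ U.1 (i.base z) hx g * X.presheaf.germ U.1 (i.base z) hx m.1) =
    X.presheaf.germ U.1 (i.base z) hx (g * r) by rw [map_mul, ← hm']; ring]
  exact Ideal.mem_map_of_mem _ hI

/-- Tensoring with a flat module preserves short exact sequences. -/
theorem shortExact_tensor_right {N : X.Modules} (hN : FlatMod.IsFlat N) {S : ShortComplex X.Modules}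
    (hS : S.ShortExact) : (S.map ((DCoh.tensorBi (X := X)).flip.obj N)).ShortExact := by
  haveI := DerivedOX.FlatTensor.preservesFiniteLimits_tensorRight_of_isFlat hN
  haveI : PreservesFiniteColimits ((DCoh.tensorBi (X := X)).flip.obj N) :=
    PreservesColimitsOfSize.preservesFiniteColimits _
  exact hS.map_of_exact _

theorem stalk_shortExact {S : ShortComplex X.Modules} (hS : S.ShortExact) (x : X) :
    Function.Injective (stalkMapₗ S.f x) ∧ Function.Surjective (stalkMapₗ S.g x) ∧
      Function.Exact (stalkMapₗ S.f x) (stalkMapₗ S.g x) := by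
  haveI : PreservesFiniteColimits (stalkModFunctor X x) :=
    PreservesColimitsOfSize.preservesFiniteColimits _
  have h := hS.map_of_exact (stalkModFunctor X x)
  exact ⟨(ModuleCat.mono_iff_injective _).1 h.mono_f, (ModuleCat.epi_iff_surjective _).1 h.epi_g,
    (ShortComplex.ShortExact.moduleCat_exact_iff_function_exact _).1 h.exact⟩

end

variable {X Z : Scheme.{u}} (i : Z ⟶ X)

/-- A pushforward is killed by the kernels of the stalk maps. -/
theorem killed_push [IsClosedImmersion i] (N : Z.Modules) :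
    Killed i ((Scheme.Modules.pushforward i).obj N) := fun z a ha m => by
  refine (PushClosed.Unit.bijective_pushStalkMap i N z).1 ?_
  rw [pushStalkMap_smul, ha, zero_smul, map_zero]

theorem killed_tensor {M : X.Modules} (h : Killed i M) (N : X.Modules) :
    Killed i ((DCoh.tensorBi.obj M).obj N) := fun z a ha m => by
  refine (DerivedOX.TensorSheaf.tensorStalk (i z) M N).injective ?_
  rw [map_smul, map_zero]
  generalize DerivedOX.TensorSheaf.tensorStalk (i z) M N m = t
  induction t using TensorProduct.induction_on with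
  | zero => exact smul_zero _
  | tmul x y => rw [TensorProduct.smul_tmul', h z a ha x, TensorProduct.zero_tmul]
  | add x y hx hy => rw [smul_add, hx, hy, add_zero]

/-- The unit at a module killed by `ker i♯` is an isomorphism, `i` a surjective closed immersion. -/
theorem isIso_unit_of_killed [IsClosedImmersion i] (hs : Function.Surjective i) {M : X.Modules}
    (h : Killed i M) : IsIso ((Scheme.Modules.pullbackPushforwardAdjunction i).unit.app M) := by
  rw [isIso_iff_stalkMapₗ_bijective]
  intro x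
  obtain ⟨z, rfl⟩ := hs x
  have h1 := bijective_unitStalk i h z
  exact (Function.Bijective.of_comp_iff' (PushClosed.Unit.bijective_pushStalkMap i _ z) _).1 h1

variable (I : X.IdealSheafData)

theorem subschemeι_surjective (hI : I ^ 2 = ⊥) : Function.Surjective I.subschemeι := fun x => by
  have h : x ∈ (I.support : Set X) := by
    rw [← I.support_pow 2 two_ne_zero, hI, Scheme.IdealSheafData.support_bot]
    trivial
  rw [← I.range_subschemeι] at h
  exact h

theorem germ_mem_ker {U : X.Opens} (t : Γ(X, U)) (ht : I.subschemeι.app U t = 0) (z : I.subscheme)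
    (hz : I.subschemeι z ∈ U) :
    (I.subschemeι.stalkMap z).hom (X.presheaf.germ U (I.subschemeι z) hz t) = 0 := by
  rw [Scheme.Hom.germ_stalkMap_apply, ht, map_zero]

theorem mul_eq_zero_of_ker (hI : I ^ 2 = ⊥) (z : I.subscheme) (a b : X.presheaf.stalk (I.subschemeι z))
    (ha : (I.subschemeι.stalkMap z).hom a = 0) (hb : (I.subschemeι.stalkMap z).hom b = 0) : a * b = 0 := by
  obtain ⟨V, hV, hzV, -⟩ := exists_isAffineOpen_mem_and_subset (U := (⊤ : X.Opens)) (x := I.subschemeι z) trivial
  have hk := ker_stalkMap_le I.subschemeι ⟨V, hV⟩ z hzV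
  have ha' : a ∈ RingHom.ker (I.subschemeι.stalkMap z).hom := ha
  have hb' : b ∈ RingHom.ker (I.subschemeι.stalkMap z).hom := hb
  rw [I.ker_subschemeι] at hk
  have hab := Ideal.mul_mem_mul (hk ha') (hk hb')
  rw [← Ideal.map_mul, ← pow_two, ← Pi.pow_apply, ← Scheme.IdealSheafData.ideal_pow, hI,
    Scheme.IdealSheafData.ideal_bot, Pi.bot_apply, Ideal.map_bot] at hab
  exact hab

theorem killed_idealMod (hI : I ^ 2 = ⊥) : Killed I.subschemeι (_root_.ClSub.idealMod I) := fun z a ha m => by
  obtain ⟨W, hzW, k, rfl⟩ := TopCat.Presheaf.exists_germ_eq (_root_.ClSub.idealMod I).presheaf m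
  obtain ⟨W', hzW', r, rfl⟩ := TopCat.Presheaf.exists_germ_eq X.presheaf a
  let O : X.Opens := W' ⊓ W
  have hO : I.subschemeι z ∈ O := ⟨hzW', hzW⟩
  let r' : Γ(X, O) := X.presheaf.map (homOfLE inf_le_left).op r
  let k' : Γ(_root_.ClSub.idealMod I, O) :=
    (_root_.ClSub.idealMod I).presheaf.map (homOfLE inf_le_right).op k
  let t : Γ(X, O) := (_root_.ClSub.idealModι I).app O k'
  have h0 : X.presheaf.germ O _ hO r' * X.presheaf.germ O _ hO t = 0 := by
    refine mul_eq_zero_of_ker I hI z _ _ ?_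
      (germ_mem_ker I t ((ClSub.Sections.mem_range_idealModι_app_iff I O t).1 ⟨k', rfl⟩) z hO)
    rw [TopCat.Presheaf.germ_res_apply]
    exact ha
  rw [← map_mul] at h0
  obtain ⟨O', hzO', i₁, i₂, he⟩ := TopCat.Presheaf.germ_eq X.presheaf _ hO hO (r' * t) 0
    (h0.trans (map_zero _).symm)
  rw [← TopCat.Presheaf.germ_res_apply X.presheaf (homOfLE (inf_le_left : O ≤ W')) _ hO r,
    ← TopCat.Presheaf.germ_res_apply (_root_.ClSub.idealMod I).presheaf (homOfLE (inf_le_right : O ≤ W)) _ hO,
    ← germ_smul]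
  refine Eq.trans (TopCat.Presheaf.germ_res_apply (_root_.ClSub.idealMod I).presheaf i₁ _ hzO' _).symm ?_
  refine (congrArg ((_root_.ClSub.idealMod I).presheaf.germ O' _ hzO')
    (?_ : _ = (0 : Γ(_root_.ClSub.idealMod I, O')))).trans (map_zero _)
  refine ClSub.Sections.idealModι_app_injective I O' ?_
  rw [map_zero]
  refine (ConcreteCategory.congr_hom ((_root_.ClSub.idealModι I).mapPresheaf.naturality i₁.op) (r' • k')).trans ?_
  refine (congrArg ((Coh.structureModule X).presheaf.map i₁.op)
    (Scheme.Modules.Hom.app_smul (_root_.ClSub.idealModι I) r' k')).trans ?_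
  exact he.trans (map_zero (X.presheaf.map i₂.op).hom)

end Groth.Agent.Lib.SqZeroMod
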