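import Groth.Agent.Lib.SqZeroMod.Basic
import Groth.Agent.Lib.TensorMod.FPConv
import Groth.Agent.Lib.TensorMod.Pullback

/-!
# `0 → i_*(I₀ ⊗ F₀) → F → i_* i^* F → 0` for a square-zero ideal and flat `F`
-/

set_option autoImplicit false
set_option linter.style.haveILetI false
universe u

open CategoryTheory CategoryTheory.Limits AlgebraicGeometry Opposite TopologicalSpace
open Groth.Agent.Lib Groth.Agent.Lib.Modules.StalkModule
open scoped TensorProduct

namespace Groth.Agent.Lib.SqZeroMod

variable {X : Scheme.{u}} (I : X.IdealSheafData)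

local notation "pb" => Scheme.Modules.pullback I.subschemeι
local notation "pf" => Scheme.Modules.pushforward I.subschemeι
local notation "Adj" => Scheme.Modules.pullbackPushforwardAdjunction I.subschemeι

/-- `I₀ ⊗ F₀`. -/
noncomputable abbrev grTensor (F : X.Modules) : I.subscheme.Modules :=
  CohB1.tensorMod ((pb).obj (_root_.ClSub.idealMod I)) ((pb).obj F)

/-- `O ⊗ F ≅ F`. -/
noncomputable def lu (F : X.Modules) :
    ((DCoh.tensorBi (X := X)).flip.obj F).obj (Coh.structureModule X) ≅ F :=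
  TensorMod.Basic.leftUnit F

/-- The inclusion `I ⊗ F ⟶ F`. -/
noncomputable def incl (F : X.Modules) :
    ((DCoh.tensorBi (X := X)).flip.obj F).obj (_root_.ClSub.idealMod I) ⟶ F :=
  ((DCoh.tensorBi (X := X)).flip.obj F).map (_root_.ClSub.idealModι I) ≫ (lu F).hom

theorem exists_smul_eq_ι (z : I.subscheme) (m : (_root_.ClSub.idealMod I).presheaf.stalk (I.subschemeι z)) :
    ∃ (c : X.presheaf.stalk (I.subschemeι z)) (o : (Coh.structureModule X).presheaf.stalk (I.subschemeι z)),
      (I.subschemeι.stalkMap z).hom c = 0 ∧ stalkMapₗ (_root_.ClSub.idealModι I) (I.subschemeι z) m = c • o := by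
  obtain ⟨W, hzW, k, rfl⟩ := TopCat.Presheaf.exists_germ_eq (_root_.ClSub.idealMod I).presheaf m
  let t : Γ(X, W) := (_root_.ClSub.idealModι I).app W k
  let one' : Γ(Coh.structureModule X, W) := (1 : Γ(X, W))
  refine ⟨X.presheaf.germ W _ hzW t, (Coh.structureModule X).presheaf.germ W _ hzW one',
    germ_mem_ker I t ((ClSub.Sections.mem_range_idealModι_app_iff I W t).1 ⟨k, rfl⟩) z hzW, ?_⟩
  rw [stalkMapₗ_germ, ← germ_smul]
  exact congrArg _ (mul_one t).symm

theorem incl_unit (hI : I ^ 2 = ⊥) (F : X.Modules) : incl I F ≫ (Adj).unit.app F = 0 := by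
  refine hom_ext_stalkMapₗ fun x => ?_
  obtain ⟨z, rfl⟩ := subschemeι_surjective I hI x
  refine LinearMap.ext fun v => ?_
  obtain ⟨w, rfl⟩ := (DerivedOX.TensorSheaf.tensorStalk (I.subschemeι z) (_root_.ClSub.idealMod I) F).symm.surjective v
  rw [stalkMapₗ_zero, incl, stalkMapₗ_comp, stalkMapₗ_comp]
  simp only [LinearMap.comp_apply, LinearMap.zero_apply]
  induction w using TensorProduct.induction_on with
  | zero => simp
  | add x y hx hy => simp only [map_add, hx, hy, add_zero]
  | tmul m y =>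
    obtain ⟨c, o, hc, ho⟩ := exists_smul_eq_ι I z m
    have h := DerivedOX.TensorSheaf.tensorStalk_natural (I.subschemeι z) (_root_.ClSub.idealModι I) (𝟙 F)
      ((DerivedOX.TensorSheaf.tensorStalk (I.subschemeι z) (_root_.ClSub.idealMod I) F).symm (m ⊗ₜ y))
    rw [CategoryTheory.Functor.map_id, Category.comp_id, LinearEquiv.apply_symm_apply, TensorProduct.map_tmul,
      stalkMapₗ_id, LinearMap.id_apply, ho, ← TensorProduct.smul_tmul'] at h
    have h' : stalkMapₗ (((DCoh.tensorBi (X := X)).flip.obj F).map (_root_.ClSub.idealModι I)) (I.subschemeι z)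
        ((DerivedOX.TensorSheaf.tensorStalk (I.subschemeι z) (_root_.ClSub.idealMod I) F).symm (m ⊗ₜ y)) =
        c • (DerivedOX.TensorSheaf.tensorStalk (I.subschemeι z) (Coh.structureModule X) F).symm (o ⊗ₜ y) := by
      rw [← map_smul]
      exact (LinearEquiv.eq_symm_apply _).2 h
    erw [h', map_smul, map_smul]
    exact killed_push I.subschemeι _ z c hc _

/-- `i_*(I₀ ⊗ F₀) ≅ I ⊗ F`. -/
theorem exists_iso (hI : I ^ 2 = ⊥) (F : X.Modules) :
    Nonempty ((pf).obj (grTensor I F) ≅ ((DCoh.tensorBi (X := X)).flip.obj F).obj (_root_.ClSub.idealMod I)) := by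
  haveI := isIso_unit_of_killed I.subschemeι (subschemeι_surjective I hI)
    (killed_tensor I.subschemeι (killed_idealMod I hI) F)
  exact ⟨(pf).mapIso (TensorMod.Pullback.pullbackTensorIso I.subschemeι _ F).symm ≪≫
    (asIso ((Adj).unit.app ((DCoh.tensorBi.obj (_root_.ClSub.idealMod I)).obj F))).symm⟩

/-- The sequence `0 → i_*(I₀ ⊗ F₀) → F → i_* i^* F → 0`. -/
theorem exists_seq (hI : I ^ 2 = ⊥) {F : X.Modules} (hF : FlatMod.IsFlat F) :
    ∃ (f : (pf).obj (grTensor I F) ⟶ F) (w : f ≫ (Adj).unit.app F = 0),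
      (ShortComplex.mk f _ w).ShortExact := by
  obtain ⟨e⟩ := exists_iso I hI F
  let T := (DCoh.tensorBi (X := X)).flip.obj F
  have hT := shortExact_tensor_right hF (ClSub.Quot.idealSeq_shortExact I)
  haveI : Mono (T.map (_root_.ClSub.idealModι I)) := hT.mono_f
  haveI : Mono (incl I F) := mono_comp (T.map (_root_.ClSub.idealModι I)) (lu F).hom
  have key : ∀ {A : X.Modules} (k : A ⟶ F), k ≫ (Adj).unit.app F = 0 → ∃ l, l ≫ incl I F = k := by
    intro A k hk
    let b : F ⟶ T.obj (_root_.ClSub.quotMod I) := (lu F).inv ≫ T.map (_root_.ClSub.toSubscheme I)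
    haveI := isIso_unit_of_killed I.subschemeι (subschemeι_surjective I hI)
      (killed_tensor I.subschemeι (killed_push I.subschemeι (Coh.structureModule I.subscheme)) F)
    have hkb : k ≫ b = 0 := by
      rw [← cancel_mono ((Adj).unit.app ((DCoh.tensorBi.obj (_root_.ClSub.quotMod I)).obj F)), zero_comp,
        Category.assoc]
      have hn := (Adj).unit.naturality b
      refine (congrArg (k ≫ ·) hn).trans ?_
      rw [← Category.assoc]
      exact (congrArg (· ≫ _) hk).trans zero_comp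
    let k' : A ⟶ T.obj (Coh.structureModule X) := k ≫ (lu F).inv
    have hkb' : k' ≫ T.map (_root_.ClSub.toSubscheme I) = 0 := (Category.assoc _ _ _).trans hkb
    obtain ⟨l, hl⟩ : ∃ l : A ⟶ T.obj (_root_.ClSub.idealMod I), l ≫ T.map (_root_.ClSub.idealModι I) = k' :=
      ⟨hT.fIsKernel.lift (KernelFork.ofι k' hkb'), hT.fIsKernel.fac _ WalkingParallelPair.zero⟩
    refine ⟨l, ?_⟩
    show l ≫ T.map (_root_.ClSub.idealModι I) ≫ (lu F).hom = k
    rw [← Category.assoc, hl]
    exact (Category.assoc _ _ _).trans ((congrArg (k ≫ ·) (lu F).inv_hom_id).trans (Category.comp_id k))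
  refine ⟨e.hom ≫ incl I F, by rw [Category.assoc, incl_unit I hI, comp_zero], ?_⟩
  refine ShortComplex.ShortExact.mk' ?_ (mono_comp e.hom (incl I F)) (PushClosed.Unit.epi_unit I.subschemeι F)
  refine ShortComplex.exact_of_f_is_kernel _ (KernelFork.IsLimit.ofι' _ _ fun k hk =>
    ⟨(key k hk).choose ≫ e.inv, ?_⟩)
  show ((key k hk).choose ≫ e.inv) ≫ e.hom ≫ incl I F = k
  rw [Category.assoc, Iso.inv_hom_id_assoc]
  exact (key k hk).choose_spec

end Groth.Agent.Lib.SqZeroMod
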